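import Cfsg.Agent.Lib.Chevalley.TwistedTorus
import Cfsg.Agent.Lib.Chevalley.WeylCount
import Cfsg.Agent.Lib.Twisted.TwistedBN

/-!
Certificates for the elements of order five of `²E₆(2)`: the two twisted frames, the torus values, the Weyl
elements fixing them, and the moves on the torus of order twenty five.
-/

set_option autoImplicit false
set_option maxRecDepth 100000

open Cfsg.Lie CfsgLib.Chevalley CfsgLib.Twisted

namespace CfsgLib.TwistedE6Five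

/-- The steps to the frame of the centraliser. -/
def stepsA : List (List (Fin chevE6.rank) × Fin chevE6.rank × Fin chevE6.nroots × ℕ) :=
  ([([], 5, 36, 2)] : List (List (Fin 6) × Fin 6 × Fin 72 × ℕ))

/-- The steps to the frame of the torus of order 25. -/
def stepsB : List (List (Fin chevE6.rank) × Fin chevE6.rank × Fin chevE6.nroots × ℕ) :=
  ([([], 5, 36, 2),
  ([], 3, 39, 1),
  ([1, 3, 2, 0, 4, 3, 1, 2, 3, 4], 5, 71, 1),
  ([], 1, 46, 2)] : List (List (Fin 6) × Fin 6 × Fin 72 × ℕ))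

/-- The root permutation of the first frame. -/
def tauA : List ℕ :=
  [0, 1, 2, 5, 16, 4, 7, 18, 9, 20, 23, 12, 27, 31, 34, 36, 3, 6, 17, 8, 19, 22, 10, 21, 24, 25, 11, 26, 30, 33, 13, 28, 32, 14, 29, 15, 56, 42, 57, 39, 43, 58, 38, 41, 45, 60, 46, 47, 50, 61, 49, 52, 63, 54, 65, 68, 35, 37, 40, 44, 59, 48, 51, 62, 53, 64, 67, 55, 66, 69, 70, 71]

/-- The root permutation of the second frame. -/
def tauB : List ℕ :=
  [70, 39, 25, 43, 58, 41, 54, 65, 45, 60, 68, 9, 20, 34, 23, 36, 40, 53, 64, 44, 59, 67, 55, 66, 71, 69, 8, 19, 33, 22, 14, 29, 47, 10, 21, 15, 56, 50, 61, 24, 42, 57, 49, 38, 52, 63, 2, 0, 5, 16, 4, 12, 27, 7, 18, 31, 35, 48, 37, 51, 62, 3, 11, 26, 6, 17, 30, 13, 28, 46, 32, 1]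

/-- Values of the torus element of order five. -/
def valA : List ℕ :=
  [0, 0, 0, 1, 4, 2, 3, 1, 3, 1, 2, 3, 1, 2, 2, 4, 3, 4, 2, 4, 2, 3, 1, 4, 0, 0, 4, 2, 3, 3, 1, 4, 0, 1, 4, 2, 3, 1, 4, 0, 1, 4, 2, 2, 3, 1, 0, 0, 1, 4, 2, 3, 1, 3, 1, 2, 1, 3, 3, 4, 2, 3, 4, 2, 4, 2, 3, 1, 4, 0, 0, 0]

/-- Its exponents. -/
def expA : List ℕ :=
  [3, 0, 0, 0, 0, 4]

/-- The positive roots of value zero. -/
def psiPos : List ℕ :=
  [39, 46, 47, 69, 70, 71]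

/-- The roots of value zero. -/
def psiAll : List ℕ :=
  [0, 1, 2, 24, 25, 32, 39, 46, 47, 69, 70, 71]

/-- Four roots permuted by the roots of value zero. -/
def block : List ℕ :=
  [67, 33, 30, 22]

/-- The transvections given on the block. -/
def trPos : List (Fin 72 × Fin 4 × Fin 4) :=
  [(0, 3, 0), (1, 2, 0), (2, 1, 0), (24, 3, 1), (25, 3, 2), (32, 2, 1), (39, 1, 2), (46, 2, 3), (47, 1, 3), (69, 0, 1), (70, 0, 2), (71, 0, 3)]

/-- Weyl elements fixing the values. -/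
def stab : List (List (Fin chevE6.rank)) :=
  ([[],
  [1],
  [3],
  [1, 3],
  [3, 1],
  [1, 3, 1],
  [2, 0, 4, 3, 1, 2, 3, 4, 5, 4, 3, 1, 2, 0, 3, 2, 4],
  [1, 2, 0, 4, 3, 1, 2, 3, 4, 5, 4, 3, 1, 2, 0, 3, 2, 4],
  [2, 0, 4, 3, 1, 2, 3, 4, 5, 4, 3, 1, 2, 0, 3, 2, 4, 3],
  [3, 2, 0, 4, 3, 1, 2, 3, 4, 5, 4, 3, 1, 2, 0, 3, 2, 4],
  [1, 2, 0, 4, 3, 1, 2, 3, 4, 5, 4, 3, 1, 2, 0, 3, 2, 4, 3],
  [1, 3, 2, 0, 4, 3, 1, 2, 3, 4, 5, 4, 3, 1, 2, 0, 3, 2, 4],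
  [2, 0, 4, 3, 1, 2, 3, 4, 5, 4, 3, 1, 2, 0, 3, 2, 4, 3, 1],
  [3, 1, 2, 0, 4, 3, 1, 2, 3, 4, 5, 4, 3, 1, 2, 0, 3, 2, 4],
  [3, 2, 0, 4, 3, 1, 2, 3, 4, 5, 4, 3, 1, 2, 0, 3, 2, 4, 3],
  [1, 2, 0, 4, 3, 1, 2, 3, 4, 5, 4, 3, 1, 2, 0, 3, 2, 4, 3, 1],
  [1, 3, 1, 2, 0, 4, 3, 1, 2, 3, 4, 5, 4, 3, 1, 2, 0, 3, 2, 4],
  [1, 3, 2, 0, 4, 3, 1, 2, 3, 4, 5, 4, 3, 1, 2, 0, 3, 2, 4, 3],
  [3, 1, 2, 0, 4, 3, 1, 2, 3, 4, 5, 4, 3, 1, 2, 0, 3, 2, 4, 3],
  [3, 2, 0, 4, 3, 1, 2, 3, 4, 5, 4, 3, 1, 2, 0, 3, 2, 4, 3, 1],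
  [1, 3, 1, 2, 0, 4, 3, 1, 2, 3, 4, 5, 4, 3, 1, 2, 0, 3, 2, 4, 3],
  [1, 3, 2, 0, 4, 3, 1, 2, 3, 4, 5, 4, 3, 1, 2, 0, 3, 2, 4, 3, 1],
  [3, 1, 2, 0, 4, 3, 1, 2, 3, 4, 5, 4, 3, 1, 2, 0, 3, 2, 4, 3, 1],
  [1, 3, 1, 2, 0, 4, 3, 1, 2, 3, 4, 5, 4, 3, 1, 2, 0, 3, 2, 4, 3, 1]] : List (List (Fin 6)))

/-- Their effect on the block. -/
def stabBlock : List (List (Fin 4)) :=
  [[0, 1, 2, 3],
  [0, 1, 3, 2],
  [0, 2, 1, 3],
  [0, 3, 1, 2],
  [0, 2, 3, 1],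
  [0, 3, 2, 1],
  [1, 0, 2, 3],
  [1, 0, 3, 2],
  [1, 2, 0, 3],
  [2, 0, 1, 3],
  [1, 3, 0, 2],
  [3, 0, 1, 2],
  [1, 2, 3, 0],
  [2, 0, 3, 1],
  [2, 1, 0, 3],
  [1, 3, 2, 0],
  [3, 0, 2, 1],
  [3, 1, 0, 2],
  [2, 3, 0, 1],
  [2, 1, 3, 0],
  [3, 2, 0, 1],
  [3, 1, 2, 0],
  [2, 3, 1, 0],
  [3, 2, 1, 0]]

/-- Certificates that values are powers of the value at the first root of the block. -/
def certA : List (List ℤ) :=
  [[0, 2, 12, 3, 7, 14],
  [0, 1, 12, 3, 7, 14],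
  [0, 1, 12, 2, 7, 14],
  [0, 2, 0, 4, 6, 3],
  [0, 5, 10, 10, 5, 0],
  [0, 3, 3, 6, 6, 7],
  [0, 4, 6, 8, 5, 11],
  [0, 2, 6, 4, 14, 8],
  [0, 4, 6, 7, 5, 11],
  [0, 2, 6, 3, 14, 8],
  [0, 3, 9, 5, 13, 12],
  [0, 3, 6, 7, 5, 11],
  [0, 1, 6, 3, 14, 8],
  [0, 2, 9, 5, 13, 12],
  [0, 2, 9, 4, 13, 12],
  [0, 4, 0, 8, 12, 5],
  [0, 4, 13, 8, 14, 2],
  [0, 5, 1, 10, 13, 6],
  [0, 3, 1, 6, 7, 3],
  [0, 5, 1, 9, 13, 6],
  [0, 3, 1, 5, 7, 3],
  [0, 4, 4, 7, 6, 7],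
  [0, 2, 12, 3, 7, 14],
  [0, 5, 7, 9, 6, 11],
  [0, 1, 0, 1, 0, 0],
  [0, 1, 0, 0, 0, 0],
  [0, 4, 1, 9, 13, 6],
  [0, 2, 1, 5, 7, 3],
  [0, 3, 4, 7, 6, 7],
  [0, 3, 4, 6, 6, 7],
  [0, 1, 12, 3, 7, 14],
  [0, 4, 7, 9, 6, 11],
  [0, 0, 0, 1, 0, 0],
  [0, 1, 12, 2, 7, 14],
  [0, 4, 7, 8, 6, 11],
  [0, 2, 0, 4, 6, 3],
  [0, 3, 10, 6, 14, 12],
  [0, 1, 3, 2, 14, 4],
  [0, 4, 13, 8, 13, 1],
  [0, 0, 0, 14, 0, 0],
  [0, 1, 3, 1, 14, 4],
  [0, 4, 13, 7, 13, 1],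
  [0, 2, 6, 4, 14, 8],
  [0, 2, 6, 3, 14, 8],
  [0, 3, 9, 5, 13, 12],
  [0, 1, 9, 1, 7, 9],
  [0, 14, 0, 0, 0, 0],
  [0, 14, 0, 14, 0, 0],
  [0, 0, 3, 1, 14, 4],
  [0, 3, 13, 7, 13, 1],
  [0, 1, 6, 3, 14, 8],
  [0, 2, 9, 5, 13, 12],
  [0, 0, 9, 1, 7, 9],
  [0, 2, 9, 4, 13, 12],
  [0, 0, 9, 0, 7, 9],
  [0, 1, 12, 2, 6, 13],
  [0, 1, 10, 2, 8, 10],
  [0, 3, 1, 6, 7, 3],
  [0, 3, 1, 5, 7, 3],
  [0, 4, 4, 7, 6, 7],
  [0, 2, 4, 3, 0, 4],
  [0, 2, 1, 5, 7, 3],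
  [0, 3, 4, 7, 6, 7],
  [0, 1, 4, 3, 0, 4],
  [0, 3, 4, 6, 6, 7],
  [0, 1, 4, 2, 0, 4],
  [0, 2, 7, 4, 14, 8],
  [0, 0, 0, 0, 0, 0],
  [0, 3, 10, 6, 14, 12],
  [0, 14, 3, 13, 8, 1],
  [0, 14, 3, 12, 8, 1],
  [0, 13, 3, 12, 8, 1]]

/-- Certificate that this value is a fifth root of unity. -/
def certFive : List ℤ :=
  [0, 10, 5, 5, 10, 0]

/-- The powers. -/
def expS : List ℕ :=
  [0, 0, 0, 1, 4, 2, 3, 1, 3, 1, 2, 3, 1, 2, 2, 4, 3, 4, 2, 4, 2, 3, 1, 4, 0, 0, 4, 2, 3, 3, 1, 4, 0, 1, 4, 2, 3, 1, 4, 0, 1, 4, 2, 2, 3, 1, 0, 0, 1, 4, 2, 3, 1, 3, 1, 2, 1, 3, 3, 4, 2, 3, 4, 2, 4, 2, 3, 1, 4, 0, 0, 0]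

/-- The encoded coordinates of the roots. -/
def keyT : List ℤ :=
  [(-10203020201), (-10203020101), (-10202020101), (-10102020101), (-102020101), (-10202010101), (-10102010101), (-102010101), (-10101010101), (-101010101), (-1010101), (-10101010001), (-101010001), (-1010001), (-10001), (-1), (-10202010100), (-10102010100), (-102010100), (-10101010100), (-101010100), (-1010100), (-10101000100), (-101000100), (-1000100), (-100), (-10101010000), (-101010000), (-1010000), (-10000), (-10101000000), (-101000000), (-1000000), (-10100000000), (-100000000), (-10000000000), 10000000000, 100000000, 10100000000, 1000000, 101000000, 10101000000, 10000, 1010000, 101010000, 10101010000, 100, 1000100, 101000100, 10101000100, 1010100, 101010100, 10101010100, 102010100, 10102010100, 10202010100, 1, 10001, 1010001, 101010001, 10101010001, 1010101, 101010101, 10101010101, 102010101, 10102010101, 10202010101,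 102020101, 10102020101, 10202020101, 10203020101, 10203020201]

/-- The keys of the roots of each value. -/
def keysV : List (List ℤ) :=
  [[(-10203020201), (-10203020101), (-10202020101), (-1000100), (-100), (-1000000), 1000000, 100, 1000100, 10202020101, 10203020101, 10203020201],
  [(-10102020101), (-102010101), (-101010101), (-101010001), (-10101000100), (-10101000000), (-10100000000), 100000000, 101000000, 10101010000, 101000100, 10101010100, 10102010100, 1, 102020101],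
  [(-10202010101), (-1010101), (-1010001), (-10001), (-102010100), (-101010100), (-101010000), (-10000000000), 10000, 1010000, 1010100, 10202010100, 10101010001, 10101010101, 10102010101],
  [(-10102010101), (-10101010101), (-10101010001), (-10202010100), (-1010100), (-1010000), (-10000), 10000000000, 101010000, 101010100, 102010100, 10001, 1010001, 1010101, 10202010101],
  [(-102020101), (-1), (-10102010100), (-10101010100), (-101000100), (-10101010000), (-101000000), (-100000000), 10100000000, 10101000000, 10101000100, 101010001, 101010101, 102010101, 10102020101]]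

/-- The order in which the fundamental roots are placed. -/
def nodeOrder : List (Fin chevE6.rank) :=
  ([0, 2, 3, 1, 4, 5] : List (Fin 6))

/-- The radical of the Cartan matrix modulo three. -/
def zThree : List ℕ :=
  [1, 0, 2, 0, 1, 2]

/-- The levels of the search. -/
def levels : List (ℕ × List (ℕ × List ℤ)) :=
  [(1, [(56, [1])]),
  (2, [(42, [0, 1]), (57, [1, 1])]),
  (0, [(39, [0, 0, 1]), (43, [0, 1, 1]), (58, [1, 1, 1])]),
  (0, [(46, [0, 0, 0, 1]), (47, [0, 0, 1, 1]), (50, [0, 1, 1, 1]), (61, [1, 1, 1, 1])]),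
  (1, [(37, [0, 0, 0, 0, 1]), (40, [0, 0, 1, 0, 1]), (44, [0, 1, 1, 0, 1]), (48, [0, 0, 1, 1, 1]), (51, [0, 1, 1, 1, 1]), (53, [0, 1, 2, 1, 1]), (59, [1, 1, 1, 0, 1]), (62, [1, 1, 1, 1, 1]), (64, [1, 1, 2, 1, 1]), (67, [1, 2, 2, 1, 1])]),
  (3, [(36, [0, 0, 0, 0, 0, 1]), (38, [0, 0, 0, 0, 1, 1]), (41, [0, 0, 1, 0, 1, 1]), (45, [0, 1, 1, 0, 1, 1]), (49, [0, 0, 1, 1, 1, 1]), (52, [0, 1, 1, 1, 1, 1]), (54, [0, 1, 2, 1, 1, 1]), (55, [0, 1, 2, 1, 2, 1]), (60, [1, 1, 1, 0, 1, 1]), (63, [1, 1, 1, 1, 1, 1]), (65, [1, 1, 2, 1, 1, 1]), (66, [1, 1, 2, 1, 2, 1]), (68, [1, 2, 2, 1, 1, 1]), (69, [1, 2, 2, 1, 2, 1]), (70, [1, 2, 3, 1, 2, 1]), (71, [1, 2, 3, 2, 2, 1])])]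

/-- The keys of the images of the fundamental roots. -/
def finals : List (List ℤ) :=
  [[1, 10000, 1000000, 100, 100000000, 10000000000],
  [1, 10000, 1000100, (-100), 100000000, 10000000000],
  [1, 1010000, (-1000000), 1000100, 101000000, 10000000000],
  [1, 1010100, (-1000100), 1000000, 101000100, 10000000000],
  [1, 1010000, 100, (-1000100), 101000000, 10000000000],
  [1, 1010100, (-100), (-1000000), 101000100, 10000000000],
  [1, (-10202010101), 10203020101, 100, (-10102020101), 10000000000],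
  [1, (-10202010101), 10203020201, (-100), (-10102020101), 10000000000],
  [1, 1010000, (-10203020101), 10203020201, 101000000, 10000000000],
  [1, (-10202010101), 10202020101, 1000100, (-10102020101), 10000000000],
  [1, 1010100, (-10203020201), 10203020101, 101000100, 10000000000],
  [1, (-10202010101), 10202020101, 1000000, (-10102020101), 10000000000],
  [1, 1010000, 100, (-10203020201), 101000000, 10000000000],
  [1, (-10202010101), 10203020201, (-1000100), (-10102020101), 10000000000],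
  [1, 10000, (-10202020101), 10203020201, 100000000, 10000000000],
  [1, 1010100, (-100), (-10203020101), 101000100, 10000000000],
  [1, (-10202010101), 10203020101, (-1000000), (-10102020101), 10000000000],
  [1, 10000, (-10202020101), 10203020101, 100000000, 10000000000],
  [1, 1010100, (-10203020201), 10202020101, 101000100, 10000000000],
  [1, 10000, 1000100, (-10203020201), 100000000, 10000000000],
  [1, 1010000, (-10203020101), 10202020101, 101000000, 10000000000],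
  [1, 10000, 1000000, (-10203020101), 100000000, 10000000000],
  [1, 1010100, (-1000100), (-10202020101), 101000100, 10000000000],
  [1, 1010000, (-1000000), (-10202020101), 101000000, 10000000000]]

/-- First basis vector of the torus of order 25. -/
def valB1 : List ℕ :=
  [0, 0, 0, 1, 4, 2, 3, 1, 3, 1, 2, 3, 1, 2, 2, 4, 3, 4, 2, 4, 2, 3, 1, 4, 0, 0, 4, 2, 3, 3, 1, 4, 0, 1, 4, 2, 3, 1, 4, 0, 1, 4, 2, 2, 3, 1, 0, 0, 1, 4, 2, 3, 1, 3, 1, 2, 1, 3, 3, 4, 2, 3, 4, 2, 4, 2, 3, 1, 4, 0, 0, 0]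

/-- Second basis vector. -/
def valB2 : List ℕ :=
  [3, 4, 2, 1, 1, 1, 0, 0, 3, 3, 2, 4, 4, 3, 1, 0, 1, 0, 0, 3, 3, 2, 2, 2, 1, 4, 4, 4, 3, 1, 3, 3, 2, 1, 1, 0, 0, 4, 4, 3, 2, 2, 4, 2, 1, 1, 1, 4, 3, 3, 3, 2, 2, 0, 0, 4, 0, 4, 2, 1, 1, 3, 2, 2, 0, 0, 4, 4, 4, 3, 1, 2]

/-- Exponents of the first. -/
def expB1 : List ℕ :=
  [3, 0, 0, 0, 0, 4]

/-- Exponents of the second. -/
def expB2 : List ℕ :=
  [4, 2, 3, 3, 3, 4]

/-- Weyl elements carrying the first basis vector to each nonzero vector. -/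
def moves : List (List (Fin chevE6.rank)) :=
  ([[],
  [2, 0, 4, 3, 1, 2, 0, 3, 2, 4],
  [0, 1, 2, 3, 1, 4, 3, 1, 5, 4, 3, 2],
  [0, 2, 3, 1, 4, 3, 1, 5, 4, 3, 2, 0],
  [1, 2, 0, 4, 3, 1, 2, 0, 3, 2, 4, 5],
  [],
  [1, 3, 4, 3, 5, 4, 3, 1, 2, 0, 3, 4, 5],
  [0, 1, 2, 0, 3, 1, 2, 0, 5, 4, 3, 2, 0],
  [1, 2, 0, 3, 1, 2, 0, 4, 3, 2, 5],
  [0, 1, 3, 4, 3, 1, 2, 3, 5, 4, 3],
  [0, 1, 2, 0, 3, 2, 4, 3, 2, 0, 5, 4, 3, 2],
  [2, 0, 3, 1, 2, 0, 4, 5, 4, 3, 1, 2, 0],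
  [0, 3, 4, 3, 2, 5, 4, 3, 1, 2, 0, 3, 4],
  [3, 4, 3, 1, 2, 3, 4, 5, 4, 3, 1],
  [0, 2, 0, 3, 1, 2, 0, 4, 3, 1, 2],
  [1, 2, 0, 3, 2, 4, 3, 2, 0, 5, 4, 3, 2, 0],
  [0, 2, 0, 3, 1, 2, 0, 4, 3, 1, 2, 0, 5],
  [3, 4, 3, 1, 2, 0, 3, 5, 4, 3, 1],
  [0, 3, 4, 3, 2, 5, 4, 3, 1, 2, 3, 4, 5],
  [2, 0, 3, 1, 2, 0, 5, 4, 3, 1, 2],
  [0, 5],
  [0, 1, 3, 4, 3, 1, 2, 0, 3, 4, 5, 4, 3],
  [1, 2, 0, 3, 1, 2, 0, 4, 3, 2, 0],
  [0, 1, 2, 0, 3, 1, 2, 0, 4, 5, 4, 3, 2],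
  [1, 3, 4, 3, 5, 4, 3, 1, 2, 3, 4]] : List (List (Fin 6)))

/-- A word of fundamental reflections, by table. -/
def wT (l : List (Fin chevE6.rank)) (s : ℕ) : ℕ := l.foldr (fun i => sigmaE6 i) s

theorem rf_sigma : ∀ (i : Fin chevE6.rank) (s : Fin chevE6.nroots), (rf cert_E6 i s : ℕ) = sigmaE6 i s := by
  decide +kernel

theorem wPerm_val (l : List (Fin chevE6.rank)) (s : Fin chevE6.nroots) :
    ((wPerm cert_E6 l s : Fin chevE6.nroots) : ℕ) = wT l s := by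
  induction l with
  | nil => simp [wT]
  | cons i l ih =>
    rw [wPerm_cons, Equiv.Perm.mul_apply, rfPerm_apply, rf_sigma, ih]
    rfl

/-- The graph symmetry on roots. -/
def rhoFun (s : Fin chevE6.nroots) : Fin chevE6.nroots :=
  if h : graphSigmaE6 s < chevE6.nroots then ⟨graphSigmaE6 s, h⟩ else s

theorem rho_spec : ∀ s : Fin chevE6.nroots,
    graphSigmaE6 s < chevE6.nroots ∧ rhoFun (rhoFun s) = s := by decide +kernel

/-- The graph symmetry as a permutation. -/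
def rhoP : Equiv.Perm (Fin chevE6.nroots) :=
  ⟨rhoFun, rhoFun, fun s => (rho_spec s).2, fun s => (rho_spec s).2⟩

/-- A step: a word, a fundamental root, the root reflected at, the length of its orbit. -/
abbrev Step : Type := List (Fin chevE6.rank) × Fin chevE6.rank × Fin chevE6.nroots × ℕ

/-- The reflection of a step. -/
def refl (S : Step) : Equiv.Perm (Fin chevE6.nroots) :=
  wPerm cert_E6 (S.1 ++ S.2.1 :: S.1.reverse)

/-- The permutation after some steps, the last step first. -/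
def framePerm : List Step → Equiv.Perm (Fin chevE6.nroots)
  | [] => rhoP
  | S :: L => refl S * framePerm L

/-- The steps can be taken. -/
def stepsOK : List Step → Bool
  | [] => true
  | S :: L => stepsOK L &&
      (let τ := framePerm L
       decide (wPerm cert_E6 S.1 (smp cert_E6 S.2.1) = S.2.2.1) &&
       decide (((τ (ngR cert_E6 S.2.2.1) : Fin chevE6.nroots) : ℕ) = chevE6.neg (τ S.2.2.1)) &&
       ((S.2.2.2 == 1 && decide (τ S.2.2.1 = S.2.2.1)) ||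
        (S.2.2.2 == 2 && decide (τ (τ S.2.2.1) = S.2.2.1) &&
          decide (τ (τ (ngR cert_E6 S.2.2.1)) = ngR cert_E6 S.2.2.1) &&
          Twist.orthB chevE6 (τ S.2.2.1 : Fin chevE6.nroots) S.2.2.1)))

/-- The first frame. -/
def tA : Equiv.Perm (Fin chevE6.nroots) := framePerm stepsA.reverse

/-- The second frame. -/
def tB : Equiv.Perm (Fin chevE6.nroots) := framePerm stepsB.reverse

theorem stepsA_ok : stepsOK stepsA.reverse = true := by decide +kernel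

theorem stepsB_ok : stepsOK stepsB.reverse = true := by decide +kernel

theorem tA_eq : ∀ s : Fin chevE6.nroots, ((tA s : Fin chevE6.nroots) : ℕ) = tauA.getD s 0 := by decide +kernel

theorem tB_eq : ∀ s : Fin chevE6.nroots, ((tB s : Fin chevE6.nroots) : ℕ) = tauB.getD s 0 := by decide +kernel

theorem valA_spec : (∀ s : Fin chevE6.nroots, valA.getD s 0 < 5 ∧
    (∑ k : Fin chevE6.rank, ((expA.getD k 0 : ℕ) : ℤ) * chevE6.cartan k s) % 5 = (valA.getD s 0 : ℕ) ∧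
    valA.getD (tauA.getD s 0) 0 = 2 * valA.getD s 0 % 5) ∧
    ∀ s : Fin chevE6.nroots, valA.getD s 0 = 0 ↔ (s : ℕ) ∈ psiAll := by decide +kernel

theorem psi_spec : (∀ s : Fin chevE6.nroots, chevE6.IsPosRoot s ↔ 36 ≤ (s : ℕ)) ∧
    psiPos.Pairwise (· < ·) ∧ (∀ s : Fin chevE6.nroots, (s : ℕ) ∈ psiPos ↔ 36 ≤ (s : ℕ) ∧ (s : ℕ) ∈ psiAll) ∧
    ∀ s : Fin chevE6.nroots, (s : ℕ) ∈ psiAll → tauA.getD s 0 = s := by decide +kernel

theorem block_spec : block.Nodup ∧ block.length = 4 ∧ ∀ r ∈ block, r < chevE6.nroots ∧ valA.getD r 0 = 1 := by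
  decide +kernel

theorem stab_spec : stab.length = 24 ∧ stabBlock.length = 24 ∧ ∀ k : Fin 24,
    (∀ s : Fin chevE6.nroots, valA.getD (wT (stab.getD k []) s) 0 = valA.getD s 0 ∧
      tauA.getD (wT (stab.getD k []) s) 0 = wT (stab.getD k []) (tauA.getD s 0)) ∧
    ∀ j : Fin 4, wT (stab.getD k []) (block.getD j 0) =
      block.getD ((stabBlock.getD k []).getD j 0 : Fin 4) 0 := by decide +kernel

theorem stabBlock_fix : ∀ k : Fin 24, (∀ j : Fin 4, ((stabBlock.getD k []).getD j 0) ≤ j) → k = 0 := by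
  decide +kernel

theorem certA_spec : ∀ (s : Fin chevE6.nroots) (k : Fin chevE6.rank),
    (chevE6.cartan k s - (expS.getD s 0 : ℕ) * chevE6.cartan k (block.getD 0 0) -
      ∑ i : Fin chevE6.rank, (certA.getD s []).getD i 0 *
        (chevE6.cartan k (tauA.getD (chevE6.simple i) 0) - 2 * chevE6.cartan k (chevE6.simple i))) % 15 = 0 := by
  decide +kernel

theorem certFive_spec : ∀ k : Fin chevE6.rank,
    (5 * chevE6.cartan k (block.getD 0 0) - ∑ i : Fin chevE6.rank, certFive.getD i 0 *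
        (chevE6.cartan k (tauA.getD (chevE6.simple i) 0) - 2 * chevE6.cartan k (chevE6.simple i))) % 15 = 0 := by
  decide +kernel

theorem expS_spec : (∀ s : Fin chevE6.nroots, (s : ℕ) ∈ psiAll → expS.getD s 0 = 0) ∧
    (∀ j : Fin 4, expS.getD (block.getD j 0) 0 = 1) ∧
    ∀ s : Fin chevE6.nroots, expS.getD s 0 = valA.getD s 0 := by decide +kernel

/-- The tables of the roots in the chains through the block. -/
def chainExpected (t : Fin 72 × Fin 4 × Fin 4) (j : Fin 4) (u : ℕ) : Bool :=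
  decide (j = t.2.2) && decide (u = block.getD t.2.1 0)

theorem trans_ne : ∀ t ∈ trPos, t.2.1 ≠ t.2.2 ∧ (t.1 : ℕ) ∈ psiAll := by decide +kernel

theorem trans_all : ∀ a b : Fin 4, a ≠ b → ∃ t ∈ trPos, t.2.1 = a ∧ t.2.2 = b := by decide +kernel

theorem trans_cover : ∀ r ∈ psiAll, ∃ t ∈ trPos, (t.1 : ℕ) = r := by decide +kernel

theorem trans_upper : ∀ t ∈ trPos, (t.1 : ℕ) ∈ psiPos → t.2.1 < t.2.2 := by decide +kernel

theorem trans_off : ∀ t ∈ trPos, ∀ j : Fin 4,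
    ((t.1 : ℕ) == block.getD j 0 || chevE6.neg t.1 == block.getD j 0) = false := by decide +kernel

/-- The chain table at one entry is as expected. -/
def chainOK (t : Fin 72 × Fin 4 × Fin 4) (j : Fin 4) (u : ℕ) : Bool :=
  let l := chevE6.chainCoeff t.1 (block.getD j 0) u
  if chainExpected t j u then l == [(1, 1)] || l == [(1, -1)] else l == []

theorem chain_spec : ∀ t ∈ trPos, ∀ j : Fin 4, ∀ u : Fin chevE6.nroots, chainOK t j u = true := by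
  decide +kernel

theorem key_spec : keyT.length = 72 ∧ keyT.Nodup ∧ ∀ s : Fin chevE6.nroots,
    keyT.getD (s : ℕ) 0 = ∑ j : Fin chevE6.rank, crd auxE6 (j : ℕ) (s : ℕ) * 100 ^ (j : ℕ) := by decide +kernel

theorem levels_spec : levels.length = 6 ∧ ∀ k : Fin 6,
    (levels.getD k (0, [])).1 = valA.getD (chevE6.simple (nodeOrder.getD k ⟨0, by decide⟩ : ℕ)) 0 ∧
      ∀ t ∈ (levels.getD k (0, [])).2, t.1 < 72 ∧ t.2.length = (k : ℕ) + 1 ∧
        ∀ j : Fin chevE6.rank, crd auxE6 (j : ℕ) t.1 =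
          ((List.zip t.2 (nodeOrder.take ((k : ℕ) + 1))).map fun p => if p.2 = j then p.1 else 0).sum := by
  decide +kernel

theorem finals_spec : finals = stab.map fun x => nodeOrder.map fun i : Fin chevE6.rank =>
    keyT.getD (wT x (chevE6.simple i)) 0 := by decide +kernel

theorem zThree_spec : ∀ a : Fin chevE6.rank,
    (∑ m : Fin chevE6.rank, (zThree.getD m 0 : ℤ) * chevE6.cartan a (chevE6.simple m)) % 3 = 0 := by
  decide +kernel

/-- The value combination. -/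
def dotKey : List ℤ → List ℤ → ℤ
  | a :: as, b :: bs => a * b + dotKey as bs
  | _, _ => 0

theorem keysV_spec : ∀ r : Fin chevE6.nroots,
    keyT.getD (r : ℕ) 0 ∈ keysV.getD (valA.getD (r : ℕ) 0) [] := by decide +kernel

/-- A root test on placed keys. -/
def testB (ks : List ℤ) (t : ℕ × List ℤ) : Bool :=
  (keysV.getD (valA.getD t.1 0) []).contains (dotKey t.2 ks)

/-- The images of the fundamental roots fix the radical modulo three. -/
noncomputable def radB (ks : List ℤ) : Bool :=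
  (List.range 6).all fun j =>
    (((List.zip nodeOrder ks).map fun p =>
      (zThree.getD p.1 0 : ℤ) * crd auxE6 j (keyT.idxOf p.2)).sum - (zThree.getD j 0 : ℤ)) % 3 == 0

/-- The search. -/
noncomputable def searchB : List (ℕ × List (ℕ × List ℤ)) → List ℤ → Bool
  | [], ks => finals.contains ks || !radB ks
  | lv :: rest, ks => (keysV.getD lv.1 []).all fun key =>
      !(lv.2.all (testB (ks ++ [key]))) || searchB rest (ks ++ [key])

theorem search_ok : searchB levels [] = true := by decide +kernel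

theorem valB_spec : ∀ s : Fin chevE6.nroots, valB1.getD s 0 < 5 ∧ valB2.getD s 0 < 5 ∧
    (∑ k : Fin chevE6.rank, ((expB1.getD k 0 : ℕ) : ℤ) * chevE6.cartan k s) % 5 = (valB1.getD s 0 : ℕ) ∧
    (∑ k : Fin chevE6.rank, ((expB2.getD k 0 : ℕ) : ℤ) * chevE6.cartan k s) % 5 = (valB2.getD s 0 : ℕ) ∧
    valB1.getD (tauB.getD s 0) 0 = 2 * valB1.getD s 0 % 5 ∧
    valB2.getD (tauB.getD s 0) 0 = 2 * valB2.getD s 0 % 5 := by decide +kernel

theorem valB_simple : valB1.getD 56 0 = 1 ∧ valB2.getD 56 0 = 0 ∧ valB1.getD 46 0 = 0 ∧ valB2.getD 46 0 = 1 := by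
  decide +kernel

theorem moves_spec : moves.length = 25 ∧ ∀ a b : Fin 5, (a ≠ 0 ∨ b ≠ 0) → ∀ s : Fin chevE6.nroots,
    ((a : ℕ) * valB1.getD (wT (moves.getD (5 * (a : ℕ) + (b : ℕ)) []) s) 0 +
        (b : ℕ) * valB2.getD (wT (moves.getD (5 * (a : ℕ) + (b : ℕ)) []) s) 0) % 5 = valB1.getD s 0 ∧
    tauB.getD (wT (moves.getD (5 * (a : ℕ) + (b : ℕ)) []) s) 0 =
      wT (moves.getD (5 * (a : ℕ) + (b : ℕ)) []) (tauB.getD s 0) := by
  decide +kernel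

end CfsgLib.TwistedE6Five
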